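import Mathlib.RingTheory.Valuation.ValuationRing
import Mathlib.LinearAlgebra.Matrix.SchurComplement
import Mathlib.LinearAlgebra.Matrix.Permutation

/-!
# Diagonalisation over valuation rings by matrices of determinant one
-/

universe u

namespace GrothLib.HM

open Matrix

variable {R : Type*} [CommRing R] [IsDomain R] [ValuationRing R]
  {K : Type*} [Field K] [Algebra R K] [IsFractionRing R K] {n : ℕ}

/-- off-diagonal entries in the rows and columns of `s` vanish -/
def Cleared (s : Finset (Fin n)) (Ξ : Matrix (Fin n) (Fin n) K) : Prop :=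
  ∀ i j, i ≠ j → (i ∈ s ∨ j ∈ s) → Ξ i j = 0

theorem exists_smith (Ξ : Matrix (Fin n) (Fin n) K) :
    ∃ (A B : Matrix (Fin n) (Fin n) R) (d : Fin n → K), A.det = 1 ∧ B.det = 1 ∧
      Ξ = A.map (algebraMap R K) * Matrix.diagonal d * B.map (algebraMap R K) := by
  classical
  suffices H : ∀ (N : ℕ) (s : Finset (Fin n)) (Ξ : Matrix (Fin n) (Fin n) K), sᶜ.card ≤ N → Cleared s Ξ →
      ∃ (A B : Matrix (Fin n) (Fin n) R) (d : Fin n → K), A.det = 1 ∧ B.det = 1 ∧
        A.map (algebraMap R K) * Ξ * B.map (algebraMap R K) = Matrix.diagonal d by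
    obtain ⟨A, B, d, hA, hB, h⟩ := H _ ∅ Ξ le_rfl fun i j _ h => by simp at h
    refine ⟨A.adjugate, B.adjugate, d, ?_, ?_, ?_⟩
    · rw [det_adjugate, hA, one_pow]
    · rw [det_adjugate, hB, one_pow]
    · rw [← h]
      have e1 : A.adjugate.map (algebraMap R K) * A.map (algebraMap R K) = 1 := by
        rw [← Matrix.map_mul, adjugate_mul, hA, one_smul, Matrix.map_one _ (map_zero _) (map_one _)]
      have e2 : B.map (algebraMap R K) * B.adjugate.map (algebraMap R K) = 1 := by
        rw [← Matrix.map_mul, mul_adjugate, hB, one_smul, Matrix.map_one _ (map_zero _) (map_one _)]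
      simp only [← mul_assoc, e1, one_mul]
      rw [mul_assoc, e2, mul_one]
  intro N
  induction N with
  | zero =>
    intro s Ξ hs hc
    refine ⟨1, 1, fun i => Ξ i i, det_one, det_one, ?_⟩
    rw [Matrix.map_one _ (map_zero _) (map_one _), one_mul, mul_one]
    ext i j
    rcases eq_or_ne i j with rfl | hij
    · simp
    · rw [Matrix.diagonal_apply_ne _ hij, hc i j hij (Or.inl ?_)]
      have := Finset.card_eq_zero.1 (Nat.le_zero.1 hs)
      by_contra hi
      exact absurd (Finset.mem_compl.2 hi) (by rw [this]; simp)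
  | succ N ih =>
    intro s Ξ hs hc
    rcases (sᶜ).eq_empty_or_nonempty with he | hne
    · exact ih s Ξ (by rw [he]; simp) hc
    obtain ⟨⟨p, q⟩, hpq, hmax⟩ := (sᶜ ×ˢ sᶜ).exists_max_image
      (fun x => ValuationRing.valuation R K (Ξ x.1 x.2)) (hne.product hne)
    rw [Finset.mem_product, Finset.mem_compl, Finset.mem_compl] at hpq
    -- move the pivot to the diagonal
    let σ : Equiv.Perm (Fin n) := Equiv.swap p q
    let ε : Fin n → R := Function.update 1 q ((Equiv.Perm.sign σ : ℤ) : R)
    let P : Matrix (Fin n) (Fin n) R := Matrix.diagonal ε * σ.permMatrix R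
    have hP : P.det = 1 := by
      rw [det_mul, det_permutation, det_diagonal, Finset.prod_update_of_mem (Finset.mem_univ q)]
      simp only [Pi.one_apply, Finset.prod_const_one, mul_one, ← Int.cast_mul, Int.units_coe_mul_self, Int.cast_one]
    let Ξ₁ := P.map (algebraMap R K) * Ξ
    have hΞ₁ : ∀ i j, Ξ₁ i j = algebraMap R K (ε i) * Ξ (σ i) j := by
      intro i j
      have hPe : ∀ b, P i b = ε i * (if σ i = b then 1 else 0) := fun b => by
        simp only [P, Matrix.diagonal_mul, Equiv.Perm.permMatrix, PEquiv.toMatrix_apply, Equiv.toPEquiv_apply,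
          Option.mem_def, Option.some.injEq]
      simp only [Ξ₁, Matrix.mul_apply, Matrix.map_apply, hPe]
      rw [Finset.sum_eq_single (σ i) (fun b _ hb => by simp [Ne.symm hb]) (fun h => absurd (Finset.mem_univ _) h)]
      simp
    have hval : ∀ i, ValuationRing.valuation R K (algebraMap R K (ε i)) = 1 := by
      intro i
      simp only [ε, Function.update_apply, Pi.one_apply]
      split_ifs
      · rcases Int.units_eq_one_or (Equiv.Perm.sign σ) with h | h <;> simp [h]
      · simp
    have hσ : ∀ i, i ∉ s → σ i ∉ s := fun i hi => by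
      simp only [σ, Equiv.swap_apply_def]
      split_ifs <;> [exact hpq.2; exact hpq.1; exact hi]
    have hσ' : ∀ i, i ∈ s → σ i = i := fun i hi =>
      Equiv.swap_apply_of_ne_of_ne (fun h => hpq.1 (h ▸ hi)) (fun h => hpq.2 (h ▸ hi))
    have hc₁ : Cleared s Ξ₁ := by
      intro i j hij h
      rw [hΞ₁]
      rcases h with h | h
      · rw [hσ' i h, hc i j hij (Or.inl h), mul_zero]
      · rw [hc (σ i) j (fun e => hij (σ.injective (e.trans (hσ' j h).symm))) (Or.inr h), mul_zero]
    have hmax₁ : ∀ i j, i ∉ s → j ∉ s →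
        ValuationRing.valuation R K (Ξ₁ i j) ≤ ValuationRing.valuation R K (Ξ₁ q q) := by
      intro i j hi hj
      rw [hΞ₁, hΞ₁, map_mul, map_mul, hval, hval, one_mul, one_mul, show σ q = p from Equiv.swap_apply_right p q]
      exact hmax (σ i, j) (by simp [hσ i hi, hj])
    -- multipliers clearing the pivot row and column
    have hu : ∀ i j, i ∉ s → j ∉ s → ∃ r : R, algebraMap R K r * Ξ₁ q q = Ξ₁ i j := by
      intro i j hi hj
      have h := hmax₁ i j hi hj
      rcases eq_or_ne (Ξ₁ q q) 0 with h0 | h0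
      · refine ⟨0, ?_⟩
        rw [h0, map_zero, le_zero_iff, Valuation.zero_iff] at h
        rw [h, map_zero, zero_mul]
      · have : Ξ₁ i j / Ξ₁ q q ∈ (ValuationRing.valuation R K).integer := by
          rw [Valuation.mem_integer_iff, map_div₀, div_le_one₀ (zero_lt_iff.2 ((Valuation.ne_zero_iff _).2 h0))]
          exact h
        obtain ⟨r, hr⟩ := (ValuationRing.mem_integer_iff R K _).1 this
        exact ⟨r, by rw [hr, div_mul_cancel₀ _ h0]⟩
    have hcl : ∀ i, ∃ r : R, (i ≠ q → algebraMap R K r * Ξ₁ q q = Ξ₁ i q) ∧ (i = q → r = 0) := fun i => by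
      by_cases hi : i = q
      · exact ⟨0, fun h => absurd hi h, fun _ => rfl⟩
      by_cases his : i ∈ s
      · exact ⟨0, fun _ => by rw [map_zero, zero_mul, hc₁ i q hi (Or.inl his)], fun _ => rfl⟩
      · obtain ⟨r, hr⟩ := hu i q his hpq.2; exact ⟨r, fun _ => hr, fun h => absurd h hi⟩
    have hrw : ∀ j, ∃ r : R, (j ≠ q → algebraMap R K r * Ξ₁ q q = Ξ₁ q j) ∧ (j = q → r = 0) := fun j => by
      by_cases hj : j = q
      · exact ⟨0, fun h => absurd hj h, fun _ => rfl⟩
      by_cases hjs : j ∈ s
      · exact ⟨0, fun _ => by rw [map_zero, zero_mul, hc₁ q j (Ne.symm hj) (Or.inr hjs)], fun _ => rfl⟩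
      · obtain ⟨r, hr⟩ := hu q j hpq.2 hjs; exact ⟨r, fun _ => hr, fun h => absurd h hj⟩
    choose c hc0 hc1 using hcl
    choose w hw0 hw1 using hrw
    let e : Fin n → R := Pi.single q 1
    let L : Matrix (Fin n) (Fin n) R := 1 + replicateCol (Fin 1) (-c) * replicateRow (Fin 1) e
    let U : Matrix (Fin n) (Fin n) R := 1 + replicateCol (Fin 1) e * replicateRow (Fin 1) (-w)
    have hL : L.det = 1 := by
      simp only [L]
      rw [det_one_add_mul_comm, det_unique]
      simp [Matrix.mul_apply, e, hc1 q rfl, Pi.single_apply]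
    have hU : U.det = 1 := by
      simp only [U]
      rw [det_one_add_mul_comm, det_unique]
      simp [Matrix.mul_apply, e, hw1 q rfl, Pi.single_apply]
    let Ξ₂ := L.map (algebraMap R K) * Ξ₁ * U.map (algebraMap R K)
    have hL₂ : ∀ i j, (L.map (algebraMap R K) * Ξ₁) i j = Ξ₁ i j - algebraMap R K (c i) * Ξ₁ q j := by
      intro i j
      simp [L, Matrix.mul_apply, Matrix.one_apply, e, Pi.single_apply, apply_ite (algebraMap R K),
        add_mul, Finset.sum_add_distrib, sub_eq_add_neg]
    have hΞ₂ : ∀ i j, Ξ₂ i j = (Ξ₁ i j - algebraMap R K (c i) * Ξ₁ q j) -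
        (Ξ₁ i q - algebraMap R K (c i) * Ξ₁ q q) * algebraMap R K (w j) := by
      intro i j
      rw [← hL₂ i j, ← hL₂ i q]
      simp only [Ξ₂]
      rw [Matrix.mul_apply]
      have hUe : ∀ x, (replicateCol (Fin 1) e * replicateRow (Fin 1) (-w)) x j = e x * -w j := fun x => by
        simp [Matrix.mul_apply]
      simp [U, hUe, Matrix.one_apply, e, Pi.single_apply, apply_ite (algebraMap R K),
        mul_add, Finset.sum_add_distrib, sub_eq_add_neg]
    have hc₂ : Cleared (insert q s) Ξ₂ := by
      intro i j hij h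
      rw [hΞ₂]
      by_cases hiq : i = q
      · subst hiq
        rw [hc1 i rfl, map_zero, zero_mul, zero_mul, sub_zero, sub_zero, mul_comm, hw0 j (Ne.symm hij), sub_self]
      rw [hc0 i hiq, sub_self, zero_mul, sub_zero]
      by_cases hjq : j = q
      · subst hjq; rw [hc0 i hiq, sub_self]
      · have hs' : i ∈ s ∨ j ∈ s := h.imp (fun h => (Finset.mem_insert.1 h).resolve_left hiq)
          (fun h => (Finset.mem_insert.1 h).resolve_left hjq)
        rcases hs' with his | hjs
        · have : algebraMap R K (c i) * Ξ₁ q q = 0 := by rw [hc0 i hiq, hc₁ i q hiq (Or.inl his)]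
          rw [hc₁ i j hij (Or.inl his), zero_sub, neg_eq_zero]
          rcases mul_eq_zero.1 this with h' | h'
          · rw [h', zero_mul]
          · rw [← hw0 j hjq, h', mul_zero, mul_zero]
        · rw [hc₁ i j hij (Or.inr hjs), hc₁ q j (Ne.symm hjq) (Or.inr hjs), mul_zero, sub_zero]
    obtain ⟨A, B, d, hA, hB, h⟩ := ih (insert q s) Ξ₂ (by
      have : sᶜ.card = (insert q s)ᶜ.card + 1 := by
        rw [Finset.compl_insert, Finset.card_erase_add_one (Finset.mem_compl.2 hpq.2)]
      omega) hc₂
    refine ⟨A * L * P, U * B, d, by rw [det_mul, det_mul, hA, hL, hP, one_mul, one_mul],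
      by rw [det_mul, hU, hB, one_mul], ?_⟩
    rw [← h]
    simp only [Ξ₂, Ξ₁, Matrix.map_mul, mul_assoc]

end GrothLib.HM
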