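import Groth.Prelude.Def_GLin
import Mathlib.RingTheory.Valuation.LocalSubring
import Mathlib.RingTheory.Spectrum.Prime.Topology
import Mathlib.RingTheory.FiniteType
import Mathlib.RingTheory.IntegralClosure.IsIntegralClosure.Basic
import Mathlib.RingTheory.Localization.FractionRing
import Mathlib.Algebra.Polynomial.Lifts

/-!
# The valuative criterion for finiteness of orbit maps
-/

universe u

open Polynomial

namespace GrothLib.HM

variable {k : Type u} [CommRing k] {R A : Type u} [CommRing R] [CommRing A] [Algebra k R] [Algebra k A]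

/-- An algebra map is finite when valuation rings containing the image contain everything. -/
theorem finite_of_valuations [Algebra.FiniteType k A] (φ : R →ₐ[k] A)
    (h : ∀ (K : Type u) [Field K] [Algebra k K] (V : ValuationSubring K) (g : A →ₐ[k] K),
      (∀ f, g (φ f) ∈ V) → ∀ a, g a ∈ V) : φ.Finite := by
  letI : Algebra R A := φ.toRingHom.toAlgebra
  haveI : IsScalarTower k R A := IsScalarTower.of_algebraMap_eq fun c => (φ.commutes c).symm
  haveI : Algebra.FiniteType R A := Algebra.FiniteType.of_restrictScalars_finiteType k _ _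
  suffices hint : ∀ a : A, IsIntegral R a by
    haveI : Algebra.IsIntegral R A := ⟨hint⟩
    exact (Algebra.IsIntegral.finite : Module.Finite R A)
  intro a
  let S : Submonoid A :=
    { carrier := {x | ∃ p : R[X], p.Monic ∧ aeval a p = x}
      one_mem' := ⟨1, monic_one, map_one _⟩
      mul_mem' := fun ⟨p, hp, hx⟩ ⟨q, hq, hy⟩ => ⟨p * q, hp.mul hq, by rw [map_mul, hx, hy]⟩ }
  by_cases h0 : (0 : A) ∈ S
  · obtain ⟨p, hp, hp0⟩ := h0
    exact ⟨p, hp, by rwa [← aeval_def]⟩
  exfalso
  obtain ⟨P, hP, -, hdisj⟩ := Ideal.exists_le_prime_disjoint (⊥ : Ideal A) S (by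
    rw [Set.disjoint_left]
    intro x hx hxS
    exact h0 (Ideal.mem_bot.1 hx ▸ hxS))
  let K := FractionRing (A ⧸ P)
  let g : A →ₐ[k] K := (IsScalarTower.toAlgHom k (A ⧸ P) K).comp (Ideal.Quotient.mkₐ k P)
  let s : Set K := Set.range fun f => g (φ f)
  have hmem : g a ∈ (⨅ V : {V : ValuationSubring K // s ⊆ V.toSubring}, V.1.toSubring) :=
    Subring.mem_iInf.2 fun V => h K V.1 g (fun f => V.2 ⟨f, rfl⟩) a
  rw [iInf_valuationSubring_superset] at hmem
  obtain ⟨q, hq, hqa⟩ := (hmem : IsIntegral (Subring.closure s) (g a))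
  have hs : Subring.closure s ≤ (g.toRingHom.comp (algebraMap R A)).range :=
    Subring.closure_le.2 (by rintro _ ⟨f, rfl⟩; exact ⟨f, rfl⟩)
  let q' : K[X] := q.map (Subring.closure s).subtype
  have hl : q' ∈ lifts (g.toRingHom.comp (algebraMap R A)) := by
    rw [lifts_iff_coeff_lifts]
    intro n
    rw [Polynomial.coeff_map]
    exact hs (q.coeff n).2
  obtain ⟨p, hp, -, hpm⟩ := lifts_and_degree_eq_and_monic hl (hq.map _)
  refine Set.disjoint_right.1 hdisj (⟨p, hpm, rfl⟩ : aeval a p ∈ S) ?_
  have h1 : g (aeval a p) = 0 := by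
    have : g (aeval a p) = eval₂ (g.toRingHom.comp (algebraMap R A)) (g a) p := by
      rw [aeval_def, ← AlgHom.coe_toRingHom, hom_eval₂]
      rfl
    rw [this, ← eval_map, hp, eval_map]
    exact hqa
  have h2 : algebraMap (A ⧸ P) K (Ideal.Quotient.mk P (aeval a p)) = 0 := h1
  rw [← map_zero (algebraMap (A ⧸ P) K)] at h2
  exact Ideal.Quotient.eq_zero_iff_mem.1 (IsFractionRing.injective _ K h2)

end GrothLib.HM

namespace GrothLib.HM

variable {k : Type u} [Field k] {A : Type u} [CommRing A] [Bialgebra k A]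
  {R : Type u} [CommRing R] [Algebra k R] [HopfRep.Comod k A R] [GLin.IsCoactAlg k A R]

/-- A point with finite orbit map is stable. -/
theorem isStablePt_of_finite (x : R →ₐ[k] k) (h : (GLin.orbitHom k A x).Finite) :
    GLin.IsStablePt k A x := by
  refine ⟨?_, ?_⟩
  · exact (PrimeSpectrum.isClosedMap_comap_of_isIntegral _
      (RingHom.IsIntegral.of_finite h)).isClosed_range
  · letI : Algebra R A := (GLin.orbitHom k A x).toRingHom.toAlgebra
    haveI : IsScalarTower k R A := IsScalarTower.of_algebraMap_eq fun c => ((GLin.orbitHom k A x).commutes c).symm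
    haveI : Module.Finite R A := h
    unfold GLin.HasFiniteStab GLin.stabIdeal
    let m : Ideal R := RingHom.ker x
    haveI : Module.Finite (R ⧸ m) (A ⧸ m.map (algebraMap R A)) :=
      Module.Finite.of_restrictScalars_finite R _ _
    haveI : Module.Finite k (R ⧸ m) :=
      Module.Finite.of_injective (Ideal.kerLiftAlg x).toLinearMap (Ideal.kerLiftAlg_injective x)
    haveI : IsScalarTower k (R ⧸ m) (A ⧸ m.map (algebraMap R A)) :=
      IsScalarTower.of_algebraMap_eq fun c => by
        change algebraMap k (A ⧸ _) c = Ideal.Quotient.mk _ (algebraMap R A (algebraMap k R c))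
        rw [← IsScalarTower.algebraMap_apply]; rfl
    change Module.Finite k (A ⧸ m.map (algebraMap R A))
    exact Module.Finite.trans (R ⧸ m) _

end GrothLib.HM
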