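import Groth.Agent.Lib.HM.Forms
import Groth.Agent.Lib.HM.Smith
import Groth.Agent.Lib.HM.Valuative
import Mathlib.RingTheory.Valuation.ValuationSubring
import Mathlib.RingTheory.LocalRing.ResidueField.Basic

/-!
# The numerical criterion of stability for forms, in valuative shape
-/

universe u

open MvPolynomial TensorProduct CoordGrp

namespace GrothLib.HM

variable {k : Type u} [CommRing k] {n d : ℕ}

variable (k n) in
/-- `O(Mat) → O(SL)` -/
noncomputable abbrev toSL : Mat n k →ₐc[k] SLn n k := (SLn.mkHom n k).comp (Mat.toGLn n k)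

variable (k n d) in
/-- the coaction of `SL_n` on forms -/
@[reducible] noncomputable def slComod : HopfRep.Comod k (SLn n k) (FormRing k n d) :=
  GLin.comodAlong (toSL k n) (formsCoact k n d)

theorem slComod_isCoactAlg :
    @GLin.IsCoactAlg k _ (SLn n k) _ _ (FormRing k n d) _ _ (slComod k n d) :=
  GLin.isCoactAlg_comodAlong (toSL k n) (formsCoact k n d) (formsCoact_isCoactAlg k n d)

variable {B : Type u} [CommRing B] [Algebra k B]

/-- the matrix of a point -/
noncomputable def ptMat (g : SLn n k →ₐ[k] B) : Matrix (Fin n) (Fin n) B := fun i j => g (SLn.X i j)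

theorem toSL_X (i j : Fin n) : toSL k n (Mat.X i j) = SLn.X i j := by
  change SLn.mk n k (Mat.toGLn n k (Mat.X i j)) = _
  rw [Mat.toGLn_X]
  rfl

theorem comp_toSL (g : SLn n k →ₐ[k] B) :
    g.comp (toSL k n : Mat n k →ₐ[k] SLn n k) = Mat.aeval n k (ptMat g) :=
  Mat.algHom_ext fun i j => by
    rw [AlgHom.comp_apply, Mat.aeval_X]
    exact congrArg g (toSL_X i j)

theorem det_ptMat (g : SLn n k →ₐ[k] B) : (ptMat g).det = 1 := by
  have h : (g.comp (SLn.mk n k)) GLn.det = 1 := by rw [AlgHom.comp_apply, SLn.det_eq_one, map_one]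
  rw [GLn.det, ← AlgHom.comp_apply, GLb.det, AlgHom.map_det] at h
  exact h

theorem pt_ptMat (g : SLn n k →ₐ[k] B) : g = SLn.pt n k (ptMat g) (det_ptMat g) := by
  refine SLn.algHom_ext (fun i j => (SLn.pt_X (ptMat g) _ i j).symm) ?_
  have key : ∀ f : SLn n k →ₐ[k] B, f (SLn.mk n k GLn.Dinv) = 1 := fun f => by
    have h := congrArg (fun x => f (SLn.mk n k x)) (GLn.det_mul_Dinv (n := n) (k := k))
    simpa [map_mul, SLn.det_eq_one] using h
  rw [key, key]

theorem apply_mem_subalgebra (S : Subalgebra k B) (g : SLn n k →ₐ[k] B) (h : ∀ i j, ptMat g i j ∈ S)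
    (x : SLn n k) : g x ∈ S := by
  let M : Matrix (Fin n) (Fin n) S := fun i j => ⟨ptMat g i j, h i j⟩
  have hM : M.det = 1 := Subtype.ext (by
    rw [show ((M.det : S) : B) = S.val M.det from rfl, AlgHom.map_det]
    exact det_ptMat g)
  have : g = S.val.comp (SLn.pt n k M hM) := by
    rw [pt_ptMat g, pt_ptMat (S.val.comp (SLn.pt n k M hM))]
    congr 1
    ext i j
    simp only [ptMat, AlgHom.comp_apply, SLn.pt_X]
    rfl
  rw [this, AlgHom.comp_apply]
  exact Subtype.prop _

/-- moving the coordinates by a point -/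
theorem apply_orbitHom_X (g : SLn n k →ₐ[k] B) (a : FormIdx n d → k) (m : FormIdx n d) :
    letI := slComod k n d
    haveI := slComod_isCoactAlg (k := k) (n := n) (d := d)
    g (GLin.orbitHom k (SLn n k) (GLin.vecPt k (FormIdx n d) a) (MvPolynomial.X m)) = moved (ptMat g) a m := by
  letI := slComod k n d
  haveI := slComod_isCoactAlg (k := k) (n := n) (d := d)
  have hc : HopfRep.Comod.coact (k := k) (A := SLn n k) (MvPolynomial.X m : FormRing k n d) =
      ∑ l : FormIdx n d, MvPolynomial.X l ⊗ₜ[k] toSL k n (formCoeff k n d l m) := by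
    change TensorProduct.map LinearMap.id _ (formsCoactAlg k n d (MvPolynomial.X m)) = _
    rw [formsCoactAlg_X, map_sum]
    rfl
  simp only [GLin.orbitHom, AlgHom.comp_apply, GLin.coactAlgHom_apply, hc, map_sum,
    Algebra.TensorProduct.map_tmul, AlgHom.id_apply, GLin.vecPt, MvPolynomial.aeval_X, moved]
  refine Finset.sum_congr rfl fun l _ => ?_
  rw [← comp_toSL, AlgHom.comp_apply]
  simp [Algebra.smul_def]

instance finiteType_SLn : Algebra.FiniteType k (SLn n k) := by
  haveI : Algebra.FiniteType k (GLb n k) :=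
    inferInstanceAs (Algebra.FiniteType k (MvPolynomial (GLPoly.Idx n) k))
  haveI : Algebra.FiniteType k (GLn n k) :=
    Algebra.FiniteType.of_surjective (GLn.mk n k) Ideal.Quotient.mk_surjective
  exact Algebra.FiniteType.of_surjective (SLn.mk n k) Ideal.Quotient.mk_surjective

end GrothLib.HM

namespace GrothLib.HM

variable {k : Type u} [Field k] {n d : ℕ}

/-- A form without destabilising weights, over any extension field and value group, is stable. -/
theorem isStableVec_of_no_destab (a : FormIdx n d → k)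
    (h : ∀ (κ : Type u) [Field κ] [Algebra k κ] (Γ : Type u) [AddCommGroup Γ] [LinearOrder Γ]
      [IsOrderedAddMonoid Γ] (b : Matrix (Fin n) (Fin n) κ) (w : Fin n → Γ),
      b.det = 1 → ∑ i, w i = 0 → w ≠ 0 →
        ∃ m : FormIdx n d, ∑ i, m.1 i • w i < 0 ∧ (subst b a).coeff m.1 ≠ 0) :
    letI := slComod k n d
    haveI := slComod_isCoactAlg (k := k) (n := n) (d := d)
    GLin.IsStableVec k (SLn n k) a := by
  letI := slComod k n d
  haveI := slComod_isCoactAlg (k := k) (n := n) (d := d)
  refine isStablePt_of_finite _ (finite_of_valuations _ fun K _ _ V g hg => ?_)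
  have hk : ∀ c : k, algebraMap k K c ∈ V := fun c => by
    have := hg (algebraMap k _ c)
    rwa [AlgHom.commutes, AlgHom.commutes] at this
  let S : Subalgebra k K := { V.toSubring.toSubsemiring with algebraMap_mem' := hk }
  refine apply_mem_subalgebra S g fun i j => ?_
  letI : Algebra k V := ((algebraMap k K).codRestrict V.toSubring hk).toAlgebra
  haveI : IsScalarTower k V K := IsScalarTower.of_algebraMap_eq fun _ => rfl
  obtain ⟨A, B, e, hA, hB, hM⟩ := exists_smith (R := V) (ptMat g)
  have hdet : ∏ i, e i = 1 := by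
    have := det_ptMat g
    rw [hM, Matrix.det_mul, Matrix.det_mul, Matrix.det_diagonal, ← RingHom.mapMatrix_apply,
      ← RingHom.mapMatrix_apply, ← RingHom.map_det, ← RingHom.map_det, hA, hB, map_one, one_mul, mul_one] at this
    exact this
  have he : ∀ i, e i ≠ 0 := fun i h0 => one_ne_zero (α := K) (by
    rw [← hdet, Finset.prod_eq_zero (Finset.mem_univ i) h0])
  suffices hV : ∀ i, V.valuation (e i) = 1 by
    have : ptMat g i j ∈ V.toSubring := by
      rw [hM, Matrix.mul_apply]
      refine Subring.sum_mem _ fun q _ => Subring.mul_mem _ ?_ (B q j).2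
      rw [Matrix.mul_apply]
      refine Subring.sum_mem _ fun p _ => Subring.mul_mem _ (A i p).2 ?_
      rw [Matrix.diagonal_apply]
      split_ifs
      · exact (V.valuation_le_one_iff _).1 (hV p).le
      · exact Subring.zero_mem _
    exact this
  -- the value group and the weights
  let u : Fin n → V.ValueGroupˣ := fun i => Units.mk0 (V.valuation (e i)) ((Valuation.ne_zero_iff _).2 (he i))
  let w : Fin n → Additive V.ValueGroupˣ := fun i => Additive.ofMul (u i)⁻¹
  by_contra hne
  push Not at hne
  obtain ⟨i₀, hi₀⟩ := hne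
  have hw0 : w ≠ 0 := fun h0 => hi₀ (by
    have := congrFun h0 i₀
    simp only [w, Pi.zero_apply, ofMul_eq_zero, inv_eq_one] at this
    exact congrArg Units.val this)
  have hsum : ∑ i, w i = 0 := by
    simp only [w]
    rw [← ofMul_prod, ofMul_eq_zero, Finset.prod_inv_distrib, inv_eq_one]
    ext
    rw [Units.coe_prod, Units.val_one]
    change ∏ i, V.valuation (e i) = 1
    rw [← map_prod, hdet, map_one]
  obtain ⟨m, hm, hc⟩ := h (IsLocalRing.ResidueField V) (Additive V.ValueGroupˣ)
    (A.map (IsLocalRing.residue V)) w (by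
      rw [← RingHom.mapMatrix_apply, ← RingHom.map_det, hA, map_one]) hsum hw0
  refine hc ?_
  -- the coefficient in `V`
  have hG : ∀ (S : Type u) [CommRing S] [Algebra k S] [Algebra V S] [IsScalarTower k V S],
      subst (A.map (algebraMap V S)) a = MvPolynomial.map (algebraMap V S) (subst A a) := fun S _ _ _ _ => by
    rw [subst, subst, lin_map, MvPolynomial.map_map, ← IsScalarTower.algebraMap_eq]
  rw [show A.map (IsLocalRing.residue V) = A.map (algebraMap V (IsLocalRing.ResidueField V)) from rfl, hG,
    coeff_map]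
  change IsLocalRing.residue V ((subst A a).coeff m.1) = 0
  rw [IsLocalRing.residue_eq_zero_iff, ValuationSubring.valuation_lt_one_iff]
  -- all coefficients of the moved form lie in `V`
  obtain ⟨P, hP⟩ : ∃ P : MvPolynomial (Fin n) V, MvPolynomial.map (algebraMap V K) P = subst (ptMat g) a := by
    rw [← Set.mem_range, mem_range_map_iff_coeffs_subset]
    intro x hx
    obtain ⟨q, -, rfl⟩ := mem_coeffs_iff.1 hx
    by_cases hq : q.degree = d
    · refine ⟨⟨_, ?_⟩, rfl⟩
      change MvPolynomial.coeff q (subst (ptMat g) a) ∈ V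
      rw [coeff_subst (ptMat g) a ⟨q, hq⟩]
      refine mul_mem (natCast_mem V _) ?_
      rw [← apply_orbitHom_X g a]
      exact hg _
    · exact ⟨0, by rw [map_zero, coeff_subst_of_degree_ne _ _ hq]⟩
  have key : MvPolynomial.map (algebraMap V K) (lin B.adjugate P) =
      lin (Matrix.diagonal e) (MvPolynomial.map (algebraMap V K) (subst A a)) := by
    rw [lin_map, hP, hM, subst_mul, subst_mul, hG, lin_lin, ← Matrix.map_mul, Matrix.mul_adjugate, hB,
      one_smul, Matrix.map_one _ (map_zero _) (map_one _), lin_one]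
  have hv := congrArg (fun p => V.valuation (MvPolynomial.coeff m.1 p)) key
  simp only [coeff_lin_diagonal, coeff_map, map_mul, map_prod, map_pow] at hv
  have hle : V.valuation ((MvPolynomial.coeff m.1 (lin B.adjugate P) : V) : K) ≤ 1 := V.valuation_le_one _
  have hle' := hle
  rw [show ((MvPolynomial.coeff m.1 (lin B.adjugate P) : V) : K) =
    algebraMap V K (MvPolynomial.coeff m.1 (lin B.adjugate P)) from rfl, hv] at hle'
  have hlt : (1 : V.ValueGroup) < ∏ i, V.valuation (e i) ^ m.1 i := by
    have h1 : ∑ i, m.1 i • w i = Additive.ofMul (∏ i, u i ^ m.1 i)⁻¹ := by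
      simp only [w, ← ofMul_pow, ← ofMul_prod, inv_pow, Finset.prod_inv_distrib]
    rw [h1, ← ofMul_one, Additive.ofMul_lt, inv_lt_one', ← Units.val_lt_val, Units.coe_prod, Units.val_one] at hm
    simpa [u] using hm
  refine lt_of_not_ge fun hge => absurd hle' (not_le.2 ?_)
  exact lt_of_lt_of_le hlt (le_mul_of_one_le_right' hge)

end GrothLib.HM
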