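import Groth.Agent.Lib.HM.Adapted
import Groth.Agent.Lib.CubicForm.CommonZero
import Mathlib.Algebra.MvPolynomial.Division

/-!
# Binary forms split into linear forms
-/

universe u

open MvPolynomial CoordGrp

namespace GrothLib.HM

variable {k : Type u} [Field k] [IsAlgClosed k]

/-- A binary form of positive degree is a product of linear forms. -/
theorem exists_split : ∀ (d : ℕ) (F : MvPolynomial (Fin 2) k), F.IsHomogeneous (d + 1) → F ≠ 0 →
    ∃ p : Fin (d + 1) → Fin 2 → k, F = ∏ i, linForm (p i) := by
  intro d
  induction d with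
  | zero =>
    intro F hF _
    refine ⟨fun _ j => F.coeff (Finsupp.single j 1), ?_⟩
    rw [Fin.prod_univ_one]
    ext e
    simp only [linForm, coeff_sum, coeff_C_mul, coeff_X']
    by_cases he : F.coeff e = 0
    · rw [he]
      symm
      refine Finset.sum_eq_zero fun j _ => ?_
      split_ifs with hj
      · rw [hj, he, zero_mul]
      · rw [mul_zero]
    · have hdeg : e.degree = 1 := by rw [Finsupp.degree_eq_weight_one]; exact hF he
      obtain ⟨j, rfl⟩ : ∃ j, e = Finsupp.single j 1 := by
        rw [Finsupp.degree_eq_sum, Fin.sum_univ_two] at hdeg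
        rcases Nat.eq_zero_or_pos (e 0) with h | h
        · exact ⟨1, Finsupp.ext fun i => by fin_cases i <;> simp [Finsupp.single_apply] <;> omega⟩
        · exact ⟨0, Finsupp.ext fun i => by fin_cases i <;> simp [Finsupp.single_apply] <;> omega⟩
      rw [Finset.sum_eq_single j (fun i _ hi => by
        rw [if_neg fun h => hi (Finsupp.single_left_injective one_ne_zero h), mul_zero])
        (fun h => absurd (Finset.mem_univ j) h), if_pos rfl, mul_one]
  | succ d ih =>
    intro F hF hF0
    obtain ⟨v, hv, hv'⟩ := GrothLib.CubicForm.exists_common_zero (k := k) (n := 2) (r := 1) (by norm_num)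
      (fun _ => F) (fun _ => d + 2) (fun _ => by omega) fun _ => hF
    obtain ⟨M, c, hM, hc, hMv⟩ := exists_mulVec_single v hv
    let G := lin M F
    have hG : G.IsHomogeneous (d + 2) := isHomogeneous_lin M hF
    have hG0 : G.coeff (Finsupp.single 1 (d + 2)) = 0 := by
      have h1 : eval (Pi.single (Fin.last 1) c) G = eval v F := by
        rw [← hMv]
        refine DFunLike.congr_fun (f := (eval (Pi.single (Fin.last 1) c)).comp (lin M).toRingHom)
          (g := eval (M.mulVec (Pi.single (Fin.last 1) c)))
          (MvPolynomial.ringHom_ext (fun r => by simp [lin]) fun i => by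
            simp only [RingHom.comp_apply, AlgHom.toRingHom_eq_coe, RingHom.coe_coe, lin, aeval_X, map_sum,
              map_mul, eval_C, eval_X, Matrix.mulVec, dotProduct]) F
      rw [eval_single hG, hv' 0] at h1
      exact (mul_eq_zero.1 h1).resolve_left (pow_ne_zero _ hc)
    have hdvd : X (0 : Fin 2) ∣ G := by
      rw [G.as_sum]
      refine Finset.dvd_sum fun e he => X_dvd_monomial.2 (Or.inr fun h0 => mem_support_iff.1 he ?_)
      have hdeg : e.degree = d + 2 := by
        rw [Finsupp.degree_eq_weight_one]; exact hG (mem_support_iff.1 he)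
      rw [Finsupp.degree_eq_sum, Fin.sum_univ_two, h0, zero_add] at hdeg
      rw [show e = Finsupp.single 1 (d + 2) from Finsupp.ext fun i => by fin_cases i <;> simp [h0, hdeg]]
      exact hG0
    obtain ⟨H, hH⟩ := hdvd
    have hH' : H.IsHomogeneous (d + 1) := fun e he => by
      have := hG (d := Finsupp.single 0 1 + e) (by rw [hH, coeff_X_mul]; exact he)
      have h1 : Finsupp.degree (Finsupp.single (0 : Fin 2) 1 + e) = d + 2 := by
        rw [Finsupp.degree_eq_weight_one]; exact this
      rw [map_add, Finsupp.degree_single] at h1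
      rw [Pi.one_def, ← Finsupp.degree_eq_weight_one]
      omega
    have hinv : lin M.adjugate G = F := by
      rw [lin_lin, Matrix.mul_adjugate, hM, one_smul, lin_one]
    have hH0 : H ≠ 0 := fun h => hF0 (by rw [← hinv, hH, h, mul_zero, map_zero])
    obtain ⟨p, hp⟩ := ih H hH' hH0
    refine ⟨Fin.cons (Matrix.vecMul (Pi.single 0 1) M.adjugate) fun i => Matrix.vecMul (p i) M.adjugate, ?_⟩
    have hX : (X 0 : MvPolynomial (Fin 2) k) = linForm (Pi.single 0 1) := by simp [linForm, Pi.single_apply]
    rw [← hinv, hH, hp, map_mul, map_prod, hX]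
    conv_rhs => rw [Fin.prod_univ_succ]
    simp only [Fin.cons_zero, Fin.cons_succ, lin_linForm]

end GrothLib.HM
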