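import Groth.Prelude.Def_GLin6
import Groth.Prelude.Def_GLin

/-!
# The action of matrices on forms, on points
-/

universe u

open MvPolynomial TensorProduct CoordGrp

namespace GrothLib.HM

variable {k : Type u} [CommRing k] {n d : ℕ} {B : Type u} [CommRing B] [Algebra k B]

/-- linear substitution by a matrix -/
noncomputable def lin (M : Matrix (Fin n) (Fin n) B) : MvPolynomial (Fin n) B →ₐ[B] MvPolynomial (Fin n) B :=
  aeval fun i => ∑ j, C (M i j) * X j

/-- the form of `a` after the substitution `x ↦ M x` -/
noncomputable def subst (M : Matrix (Fin n) (Fin n) B) (a : FormIdx n d → k) : MvPolynomial (Fin n) B :=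
  lin M (MvPolynomial.map (algebraMap k B) (formPoly a))

/-- the coordinates of `a` moved by `M` -/
noncomputable def moved (M : Matrix (Fin n) (Fin n) B) (a : FormIdx n d → k) (m : FormIdx n d) : B :=
  ∑ l : FormIdx n d, algebraMap k B (a l) * Mat.aeval n k M (formCoeff k n d l m)

theorem aeval_map_algebraMap {S : Type*} [CommRing S] [Algebra B S] [Algebra k S] [IsScalarTower k B S]
    (g : Fin n → S) (p : MvPolynomial (Fin n) k) :
    aeval g (MvPolynomial.map (algebraMap k B) p) = aeval g p := by
  induction p using MvPolynomial.induction_on with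
  | C c => simp [← IsScalarTower.algebraMap_apply]
  | add p q hp hq => simp only [map_add, hp, hq]
  | mul_X p i hp => simp [map_mul, hp]

theorem subst_eq_aeval (M : Matrix (Fin n) (Fin n) B) (a : FormIdx n d → k) :
    subst M a = aeval (fun i => ∑ j, C (M i j) * X j) (formPoly a) := by
  rw [subst, lin, aeval_map_algebraMap]

theorem lin_lin (M N : Matrix (Fin n) (Fin n) B) (P : MvPolynomial (Fin n) B) :
    lin N (lin M P) = lin (M * N) P := by
  refine AlgHom.congr_fun (φ₁ := (lin N).comp (lin M)) (φ₂ := lin (M * N)) (MvPolynomial.algHom_ext fun i => ?_) P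
  simp only [lin, AlgHom.comp_apply, aeval_X, map_sum, map_mul, aeval_C, Matrix.mul_apply,
    Finset.sum_mul, Finset.mul_sum, algebraMap_eq]
  rw [Finset.sum_comm]
  exact Finset.sum_congr rfl fun _ _ => Finset.sum_congr rfl fun _ _ => mul_assoc _ _ _ |>.symm

theorem subst_mul (M N : Matrix (Fin n) (Fin n) B) (a : FormIdx n d → k) :
    subst (M * N) a = lin N (subst M a) :=
  (lin_lin M N _).symm

theorem lin_one (P : MvPolynomial (Fin n) B) : lin (1 : Matrix (Fin n) (Fin n) B) P = P := by
  refine AlgHom.congr_fun (φ₁ := lin (1 : Matrix (Fin n) (Fin n) B)) (φ₂ := AlgHom.id B _)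
    (MvPolynomial.algHom_ext fun i => ?_) P
  simp [lin, Matrix.one_apply]

theorem lin_map {B' : Type u} [CommRing B'] (f : B →+* B') (M : Matrix (Fin n) (Fin n) B)
    (P : MvPolynomial (Fin n) B) : MvPolynomial.map f (lin M P) = lin (M.map f) (MvPolynomial.map f P) := by
  induction P using MvPolynomial.induction_on with
  | C c => simp [lin]
  | add p q hp hq => simp only [map_add, hp, hq]
  | mul_X p i hp =>
    rw [map_mul, map_mul, map_mul, map_mul, hp]
    congr 1
    simp [lin]

theorem coeff_lin_diagonal (w : Fin n → B) (P : MvPolynomial (Fin n) B) (e : Fin n →₀ ℕ) :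
    (lin (Matrix.diagonal w) P).coeff e = (∏ i, w i ^ e i) * P.coeff e := by
  classical
  have h : ∀ i, (∑ j, C (Matrix.diagonal w i j) * X j : MvPolynomial (Fin n) B) = C (w i) * X i := fun i => by
    rw [Finset.sum_eq_single i (fun j _ hj => by simp [Matrix.diagonal_apply, hj.symm])
      (fun h => absurd (Finset.mem_univ i) h), Matrix.diagonal_apply_eq]
  induction P using MvPolynomial.induction_on' with
  | monomial m c =>
    rw [lin, aeval_monomial, Finsupp.prod_fintype _ _ (fun _ => pow_zero _)]
    simp only [h, mul_pow, Finset.prod_mul_distrib, algebraMap_eq]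
    rw [show (∏ i, (X i : MvPolynomial (Fin n) B) ^ m i) = monomial m 1 by
      rw [monomial_eq, C_1, one_mul, Finsupp.prod_fintype _ _ fun _ => pow_zero _]]
    simp only [← C_pow, ← map_prod, ← mul_assoc, ← C_mul, C_mul_monomial, mul_one, coeff_monomial]
    split_ifs with hme
    · rw [hme, mul_comm]
    · rw [mul_zero]
  | add p q hp hq => rw [map_add, coeff_add, hp, hq, coeff_add, mul_add]

theorem multinomial_theorem {S : Type*} [CommSemiring S] (f : Fin n → S) :
    (∑ i, f i) ^ d = ∑ m : FormIdx n d, (m.1.multinomial : S) * ∏ i, f i ^ m.1 i := by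
  classical
  rw [Finset.sum_pow_eq_sum_piAntidiag]
  refine Finset.sum_bij' (fun g hg => ⟨Finsupp.equivFunOnFinite.symm g, ?_⟩) (fun m _ => fun i => m.1 i)
    (fun _ _ => Finset.mem_univ _) (fun m _ => ?_) (fun g _ => ?_) (fun m _ => ?_) (fun g hg => ?_)
  · rw [Finsupp.degree_eq_sum]
    simpa using (Finset.mem_piAntidiag.1 hg).1
  · rw [Finset.mem_piAntidiag]
    exact ⟨by rw [← Finsupp.degree_eq_sum]; exact m.2, fun i _ => Finset.mem_univ i⟩
  · rfl
  · exact Subtype.ext (Finsupp.ext fun _ => rfl)
  · rw [Finsupp.multinomial_eq_of_support_subset (Finset.subset_univ _)]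
    rfl

theorem aeval_formCoeff (M : Matrix (Fin n) (Fin n) B) (l m : FormIdx n d) :
    Mat.aeval n k M (formCoeff k n d l m) =
      (∏ i, (∑ j, C (M j i) * X j : MvPolynomial (Fin n) B) ^ m.1 i).coeff l.1 := by
  let Φ : MvPolynomial (Fin n) k ⊗[k] Mat n k →ₐ[k] MvPolynomial (Fin n) B :=
    Algebra.TensorProduct.lift (MvPolynomial.aeval X)
      ((IsScalarTower.toAlgHom k B (MvPolynomial (Fin n) B)).comp (Mat.aeval n k M)) fun _ _ => Commute.all _ _
  have hco : ∀ w, (Φ w).coeff l.1 = Mat.aeval n k M (coeffT (k := k) l.1 w) := fun w => by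
    induction w using TensorProduct.induction_on with
    | zero => simp
    | tmul p a =>
      simp only [Φ, Algebra.TensorProduct.lift_tmul, AlgHom.comp_apply, IsScalarTower.coe_toAlgHom',
        MvPolynomial.algebraMap_eq, coeffT_tmul, map_smul, Algebra.smul_def]
      rw [mul_comm, coeff_C_mul, show (aeval X : MvPolynomial (Fin n) k →ₐ[k] MvPolynomial (Fin n) B) p =
        MvPolynomial.map (algebraMap k B) p by rw [← aeval_map_algebraMap (B := B) X p]; exact aeval_X_left_apply _,
        coeff_map]
      rw [map_mul, AlgHom.commutes]; ring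
    | add x y hx hy => simp only [map_add, coeff_add, hx, hy]
  rw [formCoeff, ← hco]
  congr 1
  have : Φ.comp (stdCoactAlg n k) = MvPolynomial.aeval fun i => ∑ j, C (M j i) * X j :=
    MvPolynomial.algHom_ext fun i => by simp [Φ, mul_comm]
  rw [← AlgHom.comp_apply, this, aeval_monomial, map_one, one_mul,
    Finsupp.prod_fintype _ _ fun _ => pow_zero _]

/-- The form of a moved point is the substituted form. -/
theorem formPoly_moved (M : Matrix (Fin n) (Fin n) B) (a : FormIdx n d → k) :
    formPoly (moved M a) = subst M a := by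
  classical
  let N := MvPolynomial (Fin n) B
  let L : MvPolynomial (Fin n) N → N := fun P => ∑ l : FormIdx n d, C (algebraMap k B (a l)) * P.coeff l.1
  let ℓ : Fin n → MvPolynomial (Fin n) N := fun i => ∑ j, C (C (M j i)) * X j
  let s : Fin n → N := fun j => ∑ i, C (M j i) * X i
  let Q : MvPolynomial (Fin n) N := (∑ i, C (X i) * ℓ i) ^ d
  have hQ : Q = (∑ j, C (s j) * X j) ^ d := by
    simp only [Q, ℓ, s, Finset.mul_sum, map_sum, Finset.sum_mul, map_mul]
    rw [Finset.sum_comm]
    refine congrArg (· ^ d) (Finset.sum_congr rfl fun j _ => Finset.sum_congr rfl fun i _ => ?_)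
    ring
  have hℓ : ∀ (m l : FormIdx n d), (∏ i, ℓ i ^ m.1 i).coeff l.1 = C (Mat.aeval n k M (formCoeff k n d l m)) := by
    intro m l
    rw [aeval_formCoeff, ← coeff_map]
    simp [map_prod, map_pow, ℓ, map_sum]
  calc formPoly (moved M a) = L Q := by
        simp only [L, Q]
        rw [multinomial_theorem]
        simp only [coeff_sum, Finset.mul_sum]
        rw [Finset.sum_comm, formPoly]
        refine Finset.sum_congr rfl fun m _ => ?_
        have hm : ∀ l : FormIdx n d, ((m.1.multinomial : MvPolynomial (Fin n) N) * ∏ i, (C (X i) * ℓ i) ^ m.1 i).coeff l.1 =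
            monomial m.1 (m.1.multinomial : B) * C (Mat.aeval n k M (formCoeff k n d l m)) := fun l => by
          rw [Finset.prod_congr rfl fun i _ => mul_pow _ _ _, Finset.prod_mul_distrib, ← mul_assoc,
            ← map_natCast (C : N →+* MvPolynomial (Fin n) N)]
          simp only [← C_pow, ← map_prod, ← map_mul, coeff_C_mul, hℓ]
          rw [monomial_eq (a := (m.1.multinomial : B)), Finsupp.prod_fintype _ _ fun _ => pow_zero _, map_natCast]
        simp only [hm, moved, Finset.mul_sum, map_sum]
        refine Finset.sum_congr rfl fun l _ => ?_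
        rw [mul_comm (monomial m.1 _) (C _), C_mul_monomial, C_mul_monomial]
        congr 1
        ring
    _ = subst M a := by
        simp only [L]
        rw [hQ, multinomial_theorem]
        simp only [coeff_sum]
        rw [subst_eq_aeval, formPoly, map_sum]
        refine Finset.sum_congr rfl fun l _ => ?_
        rw [Finset.sum_eq_single l]
        · rw [aeval_monomial, Finsupp.prod_fintype _ _ fun _ => pow_zero _,
            ← map_natCast (C : N →+* MvPolynomial (Fin n) N)]
          simp only [mul_pow, Finset.prod_mul_distrib, ← C_pow, ← map_prod, ← mul_assoc, ← map_mul]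
          rw [show (∏ i, (X i : MvPolynomial (Fin n) N) ^ l.1 i) = monomial l.1 1 by
            rw [monomial_eq, C_1, one_mul, Finsupp.prod_fintype _ _ fun _ => pow_zero _],
            C_mul_monomial, coeff_monomial, if_pos rfl, mul_one, IsScalarTower.algebraMap_apply k B N,
            MvPolynomial.algebraMap_eq, map_mul, map_mul, map_natCast]
          simp only [map_natCast, s]
          ring
        · intro m _ hm
          rw [← map_natCast (C : N →+* MvPolynomial (Fin n) N)]
          simp only [mul_pow, Finset.prod_mul_distrib, ← C_pow, ← map_prod, ← mul_assoc, ← map_mul]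
          rw [show (∏ i, (X i : MvPolynomial (Fin n) N) ^ m.1 i) = monomial m.1 1 by
            rw [monomial_eq, C_1, one_mul, Finsupp.prod_fintype _ _ fun _ => pow_zero _],
            C_mul_monomial, coeff_monomial, if_neg fun h => hm (Subtype.ext h)]
        · exact fun h => absurd (Finset.mem_univ l) h

theorem coeff_subst (M : Matrix (Fin n) (Fin n) B) (a : FormIdx n d → k) (m : FormIdx n d) :
    (subst M a).coeff m.1 = (m.1.multinomial : B) * moved M a m := by
  rw [← formPoly_moved, coeff_formPoly]

theorem coeff_subst_of_degree_ne (M : Matrix (Fin n) (Fin n) B) (a : FormIdx n d → k) {e : Fin n →₀ ℕ}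
    (he : e.degree ≠ d) : (subst M a).coeff e = 0 := by
  classical
  rw [← formPoly_moved, formPoly, coeff_sum]
  refine Finset.sum_eq_zero fun m _ => ?_
  rw [coeff_monomial, if_neg]
  rintro rfl
  exact he m.2

end GrothLib.HM
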