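import Groth.Agent.Lib.HM.Adapted
import Groth.Agent.Lib.HM.Destab

/-!
# Configurations concentrated on a subspace are not stable
-/

universe u

open MvPolynomial CoordGrp

namespace GrothLib.HM

variable {k : Type u} [Field k] [IsAlgClosed k] {n m : ℕ}

theorem not_isStableVec_of_subspace (hm : (Nat.factorial m : k) ≠ 0) (p : Fin m → Fin (n + 1) → k)
    (a : FormIdx (n + 1) m → k) (ha : formPoly a = ∏ i, linForm (p i))
    (b : Matrix (Fin (n + 1)) (Fin (n + 1)) k) (hb : b.det = 1) (D : ℕ) (hD0 : 0 < D) (hDn : D < n + 1)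
    (W : Submodule k (Fin (n + 1) → k))
    (hbW : ∀ q ∈ W, ∀ l : Fin (n + 1), (l : ℕ) + D < n + 1 → Matrix.vecMul q b l = 0)
    (hle : m * D ≤ Nat.card {i : Fin m // p i ∈ W} * (n + 1)) :
    letI := slComod k (n + 1) m
    haveI := slComod_isCoactAlg (k := k) (n := n + 1) (d := m)
    ¬ GLin.IsStableVec k (SLn (n + 1) k) a := by
  classical
  let c := n + 1 - D
  let r : Fin (n + 1) → ℤ := fun l => if (l : ℕ) < c then -(D : ℤ) else (c : ℤ)
  have hfilter : (Finset.univ.filter fun l : Fin (n + 1) => (l : ℕ) < c).card = c := by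
    rw [Fin.card_filter_val_lt]
    omega
  refine not_isStableVec_of_destab hm a b hb r ?_ ?_ ?_
  · simp only [r, Finset.sum_ite, Finset.sum_const, hfilter]
    rw [Finset.filter_not, Finset.card_univ_diff, hfilter, Fintype.card_fin,
      show n + 1 - c = D by omega]
    simp [mul_comm]
  · intro h
    have := congrFun h ⟨0, Nat.succ_pos n⟩
    simp only [r, Pi.zero_apply] at this
    rw [if_pos (show 0 < c by omega)] at this
    omega
  intro e he
  rw [subst, Algebra.algebraMap_self, MvPolynomial.map_id, ha, map_prod]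
  simp only [lin_linForm, RingHom.id_apply]
  rw [prod_linForm, coeff_sum]
  refine Finset.sum_eq_zero fun l _ => ?_
  rw [coeff_monomial]
  split_ifs with hle'
  swap
  · rfl
  by_contra hne
  refine absurd he (not_lt.2 ?_)
  rw [← hle']
  have hsum : ∑ j, ((∑ i, Finsupp.single (l i) 1 : Fin (n + 1) →₀ ℕ) j : ℤ) * r j = ∑ i, r (l i) := by
    simp only [Finsupp.finsetSum_apply, Nat.cast_sum, Finset.sum_mul]
    rw [Finset.sum_comm]
    refine Finset.sum_congr rfl fun i _ => ?_
    rw [Finset.sum_eq_single (l i) (fun j _ hj => by rw [Finsupp.single_eq_of_ne hj, Nat.cast_zero, zero_mul])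
      (fun h => absurd (Finset.mem_univ _) h), Finsupp.single_eq_same, Nat.cast_one, one_mul]
  rw [hsum]
  let S := Finset.univ.filter fun i => p i ∈ W
  have hS : ∀ i, (if i ∈ S then (c : ℤ) else -(D : ℤ)) ≤ r (l i) := by
    intro i
    simp only [r]
    by_cases hi : i ∈ S
    · rw [if_pos hi, if_neg]
      intro hlt
      exact hne (Finset.prod_eq_zero (Finset.mem_univ i)
        (hbW (p i) (Finset.mem_filter.1 hi).2 (l i) (by omega)))
    · rw [if_neg hi]
      split_ifs <;> omega
  refine le_trans ?_ (Finset.sum_le_sum fun i _ => hS i)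
  simp only [Finset.sum_ite, Finset.sum_const, Finset.filter_mem_eq_inter, Finset.univ_inter]
  rw [Finset.filter_not, Finset.filter_mem_eq_inter, Finset.univ_inter, Finset.card_univ_diff, Fintype.card_fin]
  rw [Nat.card_eq_fintype_card, Fintype.card_subtype] at hle
  have hSm : S.card ≤ m := by simpa using S.card_le_univ
  have hcast : (c : ℤ) = (n + 1 : ℤ) - D := by omega
  simp only [nsmul_eq_mul, Nat.cast_sub hSm, hcast]
  have h' : (m : ℤ) * D ≤ (S.card : ℤ) * (n + 1) := by exact_mod_cast hle
  nlinarith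

end GrothLib.HM
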