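import Groth.Agent.Lib.HM.Points
import Groth.Agent.Lib.HM.Semistable
import Groth.Agent.Lib.HM.Adapted

/-!
# Semistable point configurations
-/

universe u

open MvPolynomial CoordGrp

namespace GrothLib.HM

variable {n d : ℕ} {k : Type u} [Field k]

/-- A configuration meeting every subspace in at most its share has no strictly positive weights. -/
theorem exists_monomial_of_points_semi (p : Fin d → Fin (n + 1) → k) (hp : ∀ i, p i ≠ 0)
    (a : FormIdx (n + 1) d → k) (ha : formPoly a = ∏ i, linForm (p i))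
    (hlt : ∀ W : Submodule k (Fin (n + 1) → k),
      Nat.card {i : Fin d // p i ∈ W} * (n + 1) ≤ d * Module.finrank k W)
    {κ : Type u} [Field κ] [Algebra k κ] {Γ : Type u} [AddCommGroup Γ] [LinearOrder Γ] [IsOrderedAddMonoid Γ]
    (b : Matrix (Fin (n + 1)) (Fin (n + 1)) κ) (hb : b.det = 1) (w : Fin (n + 1) → Γ) (hsum : ∑ i, w i = 0) :
    ∃ m : FormIdx (n + 1) d, ∑ i, m.1 i • w i ≤ 0 ∧ (subst b a).coeff m.1 ≠ 0 := by
  classical
  let σ := Tuple.sort w
  let w' : Fin (n + 1) → Γ := fun t => w (σ t)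
  have hmono : Monotone w' := Tuple.monotone_sort w
  let ι : (Fin (n + 1) → k) →ₗ[k] (Fin (n + 1) → κ) := (Algebra.linearMap k κ).compLeft _
  let q : Fin d → Fin (n + 1) → κ := fun i => Matrix.vecMul (ι (p i)) b
  have hq : ∀ i, q i ≠ 0 := fun i h => hp i (funext fun j => by
    have h1 : ι (p i) = 0 := Matrix.eq_zero_of_vecMul_eq_zero (by rw [hb]; exact one_ne_zero) h
    simpa [ι] using congrFun h1 j)
  have hG : subst b a = ∏ i, linForm (q i) := by
    rw [subst, ha, map_prod, map_prod]
    simp only [map_linForm, lin_linForm, q, ι]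
    rfl
  have hex : ∀ i, ∃ t, q i (σ t) ≠ 0 := fun i => by
    by_contra hne
    push Not at hne
    exact hq i (funext fun j => by simpa using hne (σ.symm j))
  choose pos hpos hmin using fun i => wellFounded_lt.has_min {t : Fin (n + 1) | q i (σ t) ≠ 0} (hex i)
  have h0 : ∀ i t, t < pos i → q i (σ t) = 0 := fun i t ht => by_contra fun h => hmin i t h ht
  refine ⟨⟨_, degree_sum_single fun i => σ (pos i)⟩, ?_, ?_⟩
  swap
  · rw [hG, coeff_leading q σ pos h0]
    exact Finset.prod_ne_zero_iff.2 fun i _ => hpos i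
  have hS : ∑ j, (∑ i, Finsupp.single (σ (pos i)) 1 : Fin (n + 1) →₀ ℕ) j • w j = ∑ i, w' (pos i) := by
    simp only [Finsupp.finsetSum_apply, Finset.sum_smul]
    rw [Finset.sum_comm]
    refine Finset.sum_congr rfl fun i _ => ?_
    rw [Finset.sum_eq_single (σ (pos i)) (fun j _ hj => by rw [Finsupp.single_eq_of_ne hj, zero_nsmul])
      (fun h => absurd (Finset.mem_univ _) h), Finsupp.single_eq_same, one_nsmul]
  rw [hS]
  -- tails
  have htail : ∀ t : ℕ, t < n →
      ((Finset.univ.filter fun i => t + 1 ≤ (pos i : ℕ)).card : ℤ) * (n + 1) ≤ d * (n - t) := by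
    intro t ht
    let L : Submodule κ (Fin (n + 1) → κ) :=
      LinearMap.ker (LinearMap.pi fun l : Fin (t + 1) =>
        (LinearMap.proj (σ (Fin.castLE (by omega : t + 1 ≤ n + 1) l))) ∘ₗ Matrix.vecMulLinear b)
    let W : Submodule k (Fin (n + 1) → k) := Submodule.span k (p '' {i | t + 1 ≤ (pos i : ℕ)})
    have hL : Module.finrank κ L ≤ n - t := by
      let f := LinearMap.pi fun l : Fin (t + 1) =>
        (LinearMap.proj (R := κ) (φ := fun _ : Fin (n + 1) => κ) (σ (Fin.castLE (by omega : t + 1 ≤ n + 1) l))) ∘ₗ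
          Matrix.vecMulLinear b
      have hf : Function.Surjective f := by
        intro y
        let z : Fin (n + 1) → κ := Function.extend (fun l : Fin (t + 1) => σ (Fin.castLE (by omega) l)) y 0
        refine ⟨Matrix.vecMul z b.adjugate, funext fun l => ?_⟩
        simp only [f, LinearMap.pi_apply, LinearMap.comp_apply, Matrix.vecMulLinear_apply, LinearMap.proj_apply,
          Matrix.vecMul_vecMul, Matrix.adjugate_mul, hb, one_smul, Matrix.vecMul_one]
        exact (σ.injective.comp (Fin.castLE_injective _)).extend_apply y 0 l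
      have := LinearMap.finrank_range_add_finrank_ker f
      rw [LinearMap.range_eq_top.2 hf, finrank_top, Module.finrank_fin_fun, Module.finrank_fin_fun] at this
      change t + 1 + Module.finrank κ L = n + 1 at this
      omega
    have hdim : Module.finrank k W ≤ Module.finrank κ L := by
      have hle : W ≤ (L.restrictScalars k).comap ι := Submodule.span_le.2 (by
        rintro _ ⟨i, hi, rfl⟩
        change ι (p i) ∈ LinearMap.ker _
        rw [LinearMap.mem_ker]
        funext l
        have : ((Fin.castLE (by omega : t + 1 ≤ n + 1) l : Fin (n + 1)) : ℕ) < (pos i : ℕ) := by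
          have := l.2
          simp only [Fin.val_castLE]
          have h' : t + 1 ≤ (pos i : ℕ) := hi
          omega
        exact h0 i _ (Fin.lt_def.2 this))
      let bW := Module.finBasis k W
      have hli : LinearIndependent κ fun s => (⟨ι (bW s), hle (bW s).2⟩ : L) := by
        refine LinearIndependent.of_comp L.subtype ?_
        have h1 : LinearIndependent k fun s => ((bW s : W) : Fin (n + 1) → k) :=
          bW.linearIndependent.map' W.subtype W.ker_subtype
        exact (linearIndependent_algebraMap_comp_iff (S := κ)).2 h1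
      simpa using hli.fintype_card_le_finrank
    have h1 := hlt W
    have h2 : (Finset.univ.filter fun i => t + 1 ≤ (pos i : ℕ)).card ≤ Nat.card {i : Fin d // p i ∈ W} := by
      rw [Nat.card_eq_fintype_card, Fintype.card_subtype]
      exact Finset.card_le_card fun i hi => Finset.mem_filter.2
        ⟨Finset.mem_univ i, Submodule.subset_span ⟨i, (Finset.mem_filter.1 hi).2, rfl⟩⟩
    have h3 : (Finset.univ.filter fun i => t + 1 ≤ (pos i : ℕ)).card * (n + 1) ≤ d * (n - t) :=
      (Nat.mul_le_mul_right _ h2).trans (h1.trans (Nat.mul_le_mul_left _ (hdim.trans hL)))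
    have h4 : ((n : ℤ) - t) = ((n - t : ℕ) : ℤ) := by omega
    rw [h4]
    exact_mod_cast h3
  -- Abel summation
  let e : ℕ → ℤ := fun l => (n + 1) * (Finset.univ.filter fun i => (pos i : ℕ) = l).card - d
  let wN : ℕ → Γ := fun l => w' ⟨min l n, by omega⟩
  have hwN : ∀ i, wN (pos i : ℕ) = w' (pos i) := fun i =>
    congrArg w' (Fin.ext (Nat.min_eq_left (Nat.le_of_lt_succ (pos i).2)))
  have hcard : ∀ t N, ∑ l ∈ Finset.Ico t N, ((Finset.univ.filter fun i => (pos i : ℕ) = l).card : ℤ) =
      (Finset.univ.filter fun i => t ≤ (pos i : ℕ) ∧ (pos i : ℕ) < N).card := by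
    intro t N
    rw [← Nat.cast_sum, Nat.cast_inj, Finset.card_eq_sum_card_fiberwise
      (f := fun i => (pos i : ℕ)) (t := Finset.Ico t N) (fun i hi => Finset.mem_Ico.2 (Finset.mem_filter.1 hi).2)]
    refine Finset.sum_congr rfl fun l hl => ?_
    rw [Finset.filter_filter]
    congr 1
    ext i
    simp only [Finset.mem_filter, Finset.mem_univ, true_and]
    exact ⟨fun h => ⟨h ▸ Finset.mem_Ico.1 hl, h⟩, fun h => h.2⟩
  have hE : ∀ t : ℕ, t ≤ n + 1 → ∑ l ∈ Finset.Ico t (n + 1), e l =
      (n + 1) * ((Finset.univ.filter fun i => t ≤ (pos i : ℕ)).card : ℤ) - d * (n + 1 - t) := by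
    intro t ht
    simp only [e, Finset.sum_sub_distrib, ← Finset.mul_sum, hcard, Finset.sum_const, Nat.card_Ico,
      nsmul_eq_mul, Nat.cast_sub ht]
    have : (Finset.univ.filter fun i => t ≤ (pos i : ℕ) ∧ (pos i : ℕ) < n + 1) =
        Finset.univ.filter fun i => t ≤ (pos i : ℕ) :=
      Finset.filter_congr fun i _ => ⟨fun h => h.1, fun h => ⟨h, (pos i).2⟩⟩
    rw [this]
    push_cast
    ring
  have hzero : ∑ l ∈ Finset.range (n + 1), e l = 0 := by
    rw [Finset.range_eq_Ico, hE 0 (Nat.zero_le _)]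
    simp [mul_comm]
  have hlhs : ∑ l ∈ Finset.range (n + 1), e l • wN l = ((n : ℤ) + 1) • ∑ i, w' (pos i) := by
    have h1 : ∑ l ∈ Finset.range (n + 1), wN l = 0 := by
      rw [← Fin.sum_univ_eq_sum_range, ← hsum, ← Equiv.sum_comp σ w]
      exact Finset.sum_congr rfl fun l _ => congrArg w' (Fin.ext (Nat.min_eq_left (Nat.le_of_lt_succ l.2)))
    simp only [e, sub_smul, Finset.sum_sub_distrib, ← Finset.smul_sum, h1, smul_zero, sub_zero, mul_smul]
    congr 1
    rw [← Finset.sum_fiberwise_of_maps_to (s := Finset.univ) (t := Finset.range (n + 1))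
      (g := fun i => (pos i : ℕ)) (fun i _ => Finset.mem_range.2 (pos i).2) fun i => w' (pos i)]
    refine Finset.sum_congr rfl fun l _ => ?_
    rw [natCast_zsmul, ← Finset.sum_const]
    exact Finset.sum_congr rfl fun i hi => by rw [← hwN i, (Finset.mem_filter.1 hi).2]
  have hmain := sum_smul_eq e wN n
  rw [hzero, zero_smul, zero_add, hlhs] at hmain
  have hgap : ∀ t, 0 ≤ wN (t + 1) - wN t := fun t =>
    sub_nonneg.2 (hmono (Fin.le_def.2 (show min t n ≤ min (t + 1) n by omega)))
  have hle0 : ((n : ℤ) + 1) • ∑ i, w' (pos i) ≤ 0 := by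
    rw [hmain]
    refine Finset.sum_nonpos fun t ht => ?_
    rw [← neg_nonneg, ← neg_smul]
    refine zsmul_nonneg (hgap t) ?_
    have h1 := htail t (Finset.mem_range.1 ht)
    rw [hE (t + 1) (by have := Finset.mem_range.1 ht; omega)]
    push_cast
    linarith
  by_contra hgt
  push Not at hgt
  exact absurd hle0 (not_le.2 (zsmul_pos hgt (by positivity)))

theorem coeff_subst_prod_eq_zero (p : Fin d → Fin (n + 1) → k) (a : FormIdx (n + 1) d → k)
    (ha : formPoly a = ∏ i, linForm (p i)) (b : Matrix (Fin (n + 1)) (Fin (n + 1)) k) (D : ℕ) (hD : D ≤ n + 1)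
    (W : Submodule k (Fin (n + 1) → k))
    (hbW : ∀ q ∈ W, ∀ l : Fin (n + 1), (l : ℕ) + D < n + 1 → Matrix.vecMul q b l = 0)
    (hgt : d * D < Nat.card {i : Fin d // p i ∈ W} * (n + 1)) (e : FormIdx (n + 1) d)
    (he : ∑ i, (e.1 i : ℤ) * (if (i : ℕ) < n + 1 - D then -(D : ℤ) else ((n + 1 - D : ℕ) : ℤ)) ≤ 0) :
    (subst b a).coeff e.1 = 0 := by
  classical
  let c := n + 1 - D
  let r : Fin (n + 1) → ℤ := fun l => if (l : ℕ) < c then -(D : ℤ) else (c : ℤ)
  rw [subst, Algebra.algebraMap_self, MvPolynomial.map_id, ha, map_prod]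
  simp only [lin_linForm, RingHom.id_apply]
  rw [prod_linForm, coeff_sum]
  refine Finset.sum_eq_zero fun l _ => ?_
  rw [coeff_monomial]
  split_ifs with hle'
  swap
  · rfl
  by_contra hne
  refine absurd he (not_le.2 ?_)
  rw [← hle']
  have hsum : ∑ j, ((∑ i, Finsupp.single (l i) 1 : Fin (n + 1) →₀ ℕ) j : ℤ) * r j = ∑ i, r (l i) := by
    simp only [Finsupp.finsetSum_apply, Nat.cast_sum, Finset.sum_mul]
    rw [Finset.sum_comm]
    refine Finset.sum_congr rfl fun i _ => ?_
    rw [Finset.sum_eq_single (l i) (fun j _ hj => by rw [Finsupp.single_eq_of_ne hj, Nat.cast_zero, zero_mul])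
      (fun h => absurd (Finset.mem_univ _) h), Finsupp.single_eq_same, Nat.cast_one, one_mul]
  rw [hsum]
  let S := Finset.univ.filter fun i => p i ∈ W
  have hS : ∀ i, (if i ∈ S then (c : ℤ) else -(D : ℤ)) ≤ r (l i) := by
    intro i
    simp only [r]
    by_cases hi : i ∈ S
    · rw [if_pos hi, if_neg]
      intro hlt
      exact hne (Finset.prod_eq_zero (Finset.mem_univ i)
        (hbW (p i) (Finset.mem_filter.1 hi).2 (l i) (by omega)))
    · rw [if_neg hi]
      split_ifs <;> omega
  refine lt_of_lt_of_le ?_ (Finset.sum_le_sum fun i _ => hS i)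
  simp only [Finset.sum_ite, Finset.sum_const, Finset.filter_mem_eq_inter, Finset.univ_inter]
  rw [Finset.filter_not, Finset.filter_mem_eq_inter, Finset.univ_inter, Finset.card_univ_diff, Fintype.card_fin]
  rw [Nat.card_eq_fintype_card, Fintype.card_subtype] at hgt
  have hSm : S.card ≤ d := by simpa using S.card_le_univ
  have hcast : (c : ℤ) = (n + 1 : ℤ) - D := by omega
  simp only [nsmul_eq_mul, Nat.cast_sub hSm, hcast]
  have h' : (d : ℤ) * D < (S.card : ℤ) * (n + 1) := by exact_mod_cast hgt
  nlinarith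

/-- A subspace containing more than its share of the points makes the product a nullform. -/
theorem not_isSemistableVec_of_subspace (hd : (Nat.factorial d : k) ≠ 0) (p : Fin d → Fin (n + 1) → k)
    (a : FormIdx (n + 1) d → k) (ha : formPoly a = ∏ i, linForm (p i))
    (b : Matrix (Fin (n + 1)) (Fin (n + 1)) k) (hb : b.det = 1) (D : ℕ) (hD : D ≤ n + 1)
    (W : Submodule k (Fin (n + 1) → k))
    (hbW : ∀ q ∈ W, ∀ l : Fin (n + 1), (l : ℕ) + D < n + 1 → Matrix.vecMul q b l = 0)
    (hgt : d * D < Nat.card {i : Fin d // p i ∈ W} * (n + 1)) :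
    letI := slComod k (n + 1) d
    haveI := slComod_isCoactAlg (k := k) (n := n + 1) (d := d)
    ¬ GLin.IsSemistableVec k (SLn (n + 1) k) a := by
  classical
  refine isNullform_of_destab hd a b hb _ ?_ fun e he => coeff_subst_prod_eq_zero p a ha b D hD W hbW hgt e he
  have hfilter : (Finset.univ.filter fun l : Fin (n + 1) => (l : ℕ) < n + 1 - D).card = n + 1 - D := by
    rw [Fin.card_filter_val_lt]
    omega
  simp only [Finset.sum_ite, Finset.sum_const, hfilter]
  rw [Finset.filter_not, Finset.card_univ_diff, hfilter, Fintype.card_fin,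
    show n + 1 - (n + 1 - D) = D by omega]
  simp [mul_comm]

end GrothLib.HM
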